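import Mathlib.Topology.Sheaves.Stalks
import Mathlib.Topology.Sheaves.SheafCondition.UniqueGluing
import Mathlib.Topology.Spectral.Basic
import Mathlib.Topology.Spectral.ConstructibleTopology
import Mathlib.Topology.LocallyConstant.Basic

/-!
# Extending germs from a closed subset meeting every point closure in a connected set
-/

open CategoryTheory Limits TopologicalSpace Opposite Topology

universe u

namespace Groth.Agent.SpectralSec

variable {X : Type u} [TopologicalSpace X] [SpectralSpace X]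

/-- A point of the closure of a constructibly closed set is a specialisation of one of its points. -/
theorem exists_specializes_of_mem_closure (T : Set X) (hT : IsClosed[constructibleTopology X] T)
    (x : X) (hx : x ∈ closure T) : ∃ y ∈ T, y ⤳ x := by
  have hco : ∀ N : Set X, IsOpen N → IsCompact N → IsClosed[constructibleTopology X] N :=
    fun N hN hc => @IsClosed.mk _ (constructibleTopology X) _
      ((show IsCompact Nᶜᶜ by rwa [compl_compl]).isOpen_constructibleTopology_of_isClosed hN.isClosed_compl)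
  let p : WithConstructibleTopology X → X := WithTopology.ofTopology (t := constructibleTopology X)
  let ι := {N : Set X // IsOpen N ∧ IsCompact N ∧ x ∈ N}
  have hclosed : ∀ S : Set X, IsClosed[constructibleTopology X] S → IsClosed (p ⁻¹' S) := fun S hS => by
    rw [WithConstructibleTopology.isClosed_iff]
    exact hS
  haveI : Nonempty ι := by
    obtain ⟨N, ⟨h1, h2⟩, h3, -⟩ := PrespectralSpace.isTopologicalBasis.exists_subset_of_mem_open
      (Set.mem_univ x) isOpen_univ
    exact ⟨⟨N, h1, h2, h3⟩⟩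
  have hdir : Directed (· ⊇ ·) fun N : ι => p ⁻¹' (T ∩ N.1) := fun M N =>
    ⟨⟨M.1 ∩ N.1, M.2.1.inter N.2.1, M.2.2.1.inter_of_isOpen N.2.2.1 M.2.1 N.2.1, M.2.2.2, N.2.2.2⟩,
      fun y hy => ⟨hy.1, hy.2.1⟩, fun y hy => ⟨hy.1, hy.2.2⟩⟩
  have hne : ∀ N : ι, (p ⁻¹' (T ∩ N.1)).Nonempty := fun N => by
    obtain ⟨y, hy1, hy2⟩ := mem_closure_iff.mp hx N.1 N.2.1 N.2.2.2
    exact ⟨WithTopology.toTopology _ y, hy2, hy1⟩
  have hcl : ∀ N : ι, IsClosed (p ⁻¹' (T ∩ N.1)) := fun N => by
    rw [Set.preimage_inter]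
    exact (hclosed T hT).inter (hclosed _ (hco N.1 N.2.1 N.2.2.1))
  obtain ⟨y, hy⟩ := IsCompact.nonempty_iInter_of_directed_nonempty_isCompact_isClosed _ hdir hne
    (fun N => (hcl N).isCompact) hcl
  rw [Set.mem_iInter] at hy
  refine ⟨p y, (hy (Classical.arbitrary ι)).1, specializes_iff_forall_open.mpr fun s hs hxs => ?_⟩
  obtain ⟨N, ⟨h1, h2⟩, h3, h4⟩ := PrespectralSpace.isTopologicalBasis.exists_subset_of_mem_open hxs hs
  exact h4 (hy ⟨N, h1, h2, h3⟩).2

theorem isClosed_constructible_of_isClosed {S : Set X} (hS : IsClosed S) :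
    IsClosed[constructibleTopology X] S := by
  refine @IsClosed.mk _ (constructibleTopology X) _ ?_
  obtain ⟨B, hB, e⟩ := PrespectralSpace.isTopologicalBasis.open_eq_sUnion hS.isOpen_compl
  rw [e]
  exact @isOpen_sUnion _ (constructibleTopology X) _ fun t ht =>
    (hB ht).2.isOpen_constructibleTopology_of_isOpen (hB ht).1

/-- The points whose closure meets a compact set form a constructibly closed set. -/
theorem isClosed_meets (K : Set X) (hK : IsCompact K) :
    IsClosed[constructibleTopology X] {y | ∃ z ∈ K, y ⤳ z} := by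
  have e : {y | ∃ z ∈ K, y ⤳ z} = ⋂ N : {N : Set X // IsOpen N ∧ IsCompact N ∧ K ⊆ N}, N.1 := by
    ext y
    simp only [Set.mem_setOf_eq, Set.mem_iInter]
    refine ⟨fun ⟨z, hz, hyz⟩ N => hyz.mem_open N.2.1 (N.2.2.2 hz), fun h => ?_⟩
    by_contra hne
    push Not at hne
    obtain ⟨N, h1, h2, h3, h4⟩ := PrespectralSpace.exists_isCompact_and_isOpen_between hK
      (isClosed_closure (s := ({y} : Set X))).isOpen_compl
      (fun z hz hzy => hne z hz (specializes_iff_mem_closure.mpr hzy))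
    exact h4 (h ⟨N, h2, h1, h3⟩) (subset_closure rfl)
  rw [e]
  exact @isClosed_iInter _ _ (constructibleTopology X) _ fun N => @IsClosed.mk _ (constructibleTopology X) _
    ((show IsCompact (N.1ᶜ)ᶜ by rw [compl_compl]; exact N.2.2.1).isOpen_constructibleTopology_of_isClosed
      N.2.1.isClosed_compl)

/-- Extending a continuous family of germs on `Z` to a global section. -/
theorem exists_section_of_germs {X : TopCat.{u}} [SpectralSpace X] (F : TopCat.Sheaf (Type u) X)
    (Z : Set X) (hZ : IsClosed Z) (hconn : ∀ x : X, IsConnected (Z ∩ closure {x}))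
    (a : ∀ z ∈ Z, F.presheaf.stalk z)
    (ha : ∀ z ∈ Z, ∃ (U : Opens X) (_ : z ∈ U) (s : F.presheaf.obj (op U)),
      ∀ z' (hz' : z' ∈ Z) (hU : z' ∈ U), F.presheaf.germ U z' hU s = a z' hz') :
    ∃ t : F.presheaf.obj (op ⊤), ∀ z (hz : z ∈ Z), F.presheaf.germ ⊤ z trivial t = a z hz := by
  classical
  -- compact open neighbourhoods
  have ha' : ∀ z : Z, ∃ (U : Opens X) (_ : IsCompact (U : Set X)) (_ : z.1 ∈ U)
      (s : F.presheaf.obj (op U)),
      ∀ z' (hz' : z' ∈ Z) (hU : z' ∈ U), F.presheaf.germ U z' hU s = a z' hz' := fun z => by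
    obtain ⟨U, hzU, s, hs⟩ := ha z.1 z.2
    obtain ⟨N, ⟨h1, h2⟩, h3, h4⟩ :=
      PrespectralSpace.isTopologicalBasis.exists_subset_of_mem_open hzU U.isOpen
    refine ⟨⟨N, h1⟩, h2, h3, F.presheaf.map (homOfLE (show (⟨N, h1⟩ : Opens X) ≤ U from h4)).op s,
      fun z' hz' hU => ?_⟩
    rw [TopCat.Presheaf.germ_res_apply]
    exact hs z' hz' (h4 hU)
  choose U hUc hzU s hs using ha'
  -- the value at a point read off at a point of `Z`
  let g : ∀ (x : X) (z : (Z ∩ closure {x} : Set X)), F.presheaf.stalk x := fun x z =>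
    F.presheaf.stalkSpecializes (specializes_iff_mem_closure.mpr z.2.2) (a z.1 z.2.1)
  have hg : ∀ (x : X) (z : (Z ∩ closure {x} : Set X)) (i : Z) (hz : z.1 ∈ U i),
      g x z = F.presheaf.germ (U i) x
        ((specializes_iff_mem_closure.mpr z.2.2).mem_open (U i).isOpen hz) (s i) := fun x z i hz => by
    show F.presheaf.stalkSpecializes _ (a z.1 z.2.1) = _
    rw [← hs i z.1 z.2.1 hz]
    exact congr($(F.presheaf.germ_stalkSpecializes hz (specializes_iff_mem_closure.mpr z.2.2)) (s i))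
  have hgc : ∀ (x : X) (z z' : (Z ∩ closure {x} : Set X)), g x z = g x z' := fun x z z' => by
    haveI : PreconnectedSpace (Z ∩ closure {x} : Set X) :=
      isPreconnected_iff_preconnectedSpace.mp (hconn x).isPreconnected
    have hlc : IsLocallyConstant (g x) := (IsLocallyConstant.iff_exists_open _).mpr fun w =>
      ⟨Subtype.val ⁻¹' (U ⟨w.1, w.2.1⟩ : Set X), (U _).isOpen.preimage continuous_subtype_val,
        hzU ⟨w.1, w.2.1⟩, fun w' hw' =>
          (hg x w' ⟨w.1, w.2.1⟩ hw').trans (hg x w ⟨w.1, w.2.1⟩ (hzU ⟨w.1, w.2.1⟩)).symm⟩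
    exact hlc.apply_eq_of_isPreconnected isPreconnected_univ trivial trivial
  choose w hw using fun x => (hconn x).nonempty
  let b : ∀ x, F.presheaf.stalk x := fun x => g x ⟨w x, hw x⟩
  have hb : ∀ (x z : X) (hz : z ∈ Z) (hxz : x ⤳ z) (i : Z) (hzi : z ∈ U i),
      b x = F.presheaf.germ (U i) x (hxz.mem_open (U i).isOpen hzi) (s i) := fun x z hz hxz i hzi =>
    (hgc x _ ⟨z, hz, specializes_iff_mem_closure.mp hxz⟩).trans (hg x _ i hzi)
  -- a finite subfamily
  obtain ⟨t, ht⟩ := hZ.isCompact.elim_finite_subcover (fun i : Z => (U i : Set X))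
    (fun i => (U i).isOpen) (fun z hz => Set.mem_iUnion.mpr ⟨⟨z, hz⟩, hzU ⟨z, hz⟩⟩)
  have hloc : ∀ x : X, ∃ (V : Opens X) (_ : x ∈ V) (r : F.presheaf.obj (op V)),
      ∀ y (hy : y ∈ V), F.presheaf.germ V y hy r = b y := by
    intro x
    let i : Z := ⟨w x, (hw x).1⟩
    have hxz : x ⤳ w x := specializes_iff_mem_closure.mpr (hw x).2
    have hxi : x ∈ U i := hxz.mem_open (U i).isOpen (hzU i)
    let E : Set X := {y | ∃ hy : y ∈ U i, b y ≠ F.presheaf.germ (U i) y hy (s i)}
    let T : Z → Set X := fun j => {y | (∃ z ∈ Z ∩ (U j : Set X), y ⤳ z)} ∩ (U i : Set X) ∩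
      {y | ∀ (hy : y ∈ U i) (hy' : y ∈ U j),
        F.presheaf.germ (U j) y hy' (s j) ≠ F.presheaf.germ (U i) y hy (s i)}
    have hE : E ⊆ ⋃ j ∈ t, T j := by
      rintro y ⟨hy, hne⟩
      obtain ⟨j, hj, hzj⟩ : ∃ j ∈ t, w y ∈ U j := by simpa using ht (hw y).1
      have hyz : y ⤳ w y := specializes_iff_mem_closure.mpr (hw y).2
      refine Set.mem_iUnion₂.mpr ⟨j, hj, ⟨⟨w y, ⟨(hw y).1, hzj⟩, hyz⟩, hy⟩, fun hy₁ hy₂ h => hne ?_⟩
      exact (hb y (w y) (hw y).1 hyz j hzj).trans h
    have hTc : ∀ j, IsClosed[constructibleTopology X] (T j) := by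
      intro j
      refine @IsClosed.inter _ _ _ (constructibleTopology X) (@IsClosed.inter _ _ _ (constructibleTopology X) ?_ ?_) ?_
      · exact isClosed_meets _ ((hUc j).inter_left hZ)
      · exact @IsClosed.mk _ (constructibleTopology X) _
          ((show IsCompact ((U i : Set X)ᶜ)ᶜ by rw [compl_compl]; exact hUc i).isOpen_constructibleTopology_of_isClosed
            (U i).isOpen.isClosed_compl)
      · refine isClosed_constructible_of_isClosed ?_
        rw [← isOpen_compl_iff, isOpen_iff_forall_mem_open]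
        intro y hy
        simp only [Set.mem_compl_iff, Set.mem_setOf_eq, not_forall, ne_eq, not_not] at hy
        obtain ⟨hy₁, hy₂, h⟩ := hy
        obtain ⟨W, hyW, iU, iV, e⟩ := F.presheaf.germ_eq y hy₂ hy₁ _ _ h
        refine ⟨W, fun y' hy' => ?_, W.isOpen, hyW⟩
        simp only [Set.mem_compl_iff, Set.mem_setOf_eq, not_forall, ne_eq, not_not]
        refine ⟨iV.le hy', iU.le hy', ?_⟩
        rw [← F.presheaf.germ_res_apply iU y' hy', e, F.presheaf.germ_res_apply iV y' hy']
    have hnot : x ∉ closure E := by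
      intro hcl
      have := closure_mono hE hcl
      rw [t.closure_biUnion] at this
      obtain ⟨j, hj, hxj⟩ := Set.mem_iUnion₂.mp this
      obtain ⟨y, ⟨⟨⟨z, hz, hyz⟩, hy⟩, hne⟩, hyx⟩ := exists_specializes_of_mem_closure _ (hTc j) x hxj
      refine hne hy (hyz.mem_open (U j).isOpen hz.2) ?_
      exact (hb y z hz.1 hyz j hz.2).symm.trans (hb y (w x) (hw x).1 (hyx.trans hxz) i (hzU i))
    let V : Opens X := ⟨(U i : Set X) ∩ (closure E)ᶜ, (U i).isOpen.inter isClosed_closure.isOpen_compl⟩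
    have hVU : V ≤ U i := fun y hy => hy.1
    refine ⟨V, ⟨hxi, hnot⟩, F.presheaf.map (homOfLE hVU).op (s i), fun y hy => ?_⟩
    rw [TopCat.Presheaf.germ_res_apply]
    by_contra hne
    exact hy.2 (subset_closure ⟨hy.1, Ne.symm hne⟩)
  choose V hxV r hr using hloc
  obtain ⟨t', ht', -⟩ := F.existsUnique_gluing' V ⊤ (fun x => homOfLE le_top)
    (fun x _ => Opens.mem_iSup.mpr ⟨x, hxV x⟩) r (fun x x' =>
      TopCat.Presheaf.section_ext F _ _ _ fun y hy => by
        rw [TopCat.Presheaf.germ_res_apply, TopCat.Presheaf.germ_res_apply]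
        exact (hr x y hy.1).trans (hr x' y hy.2).symm)
  refine ⟨t', fun z hz => ?_⟩
  rw [← TopCat.Presheaf.germ_res_apply _ (homOfLE (le_top : V z ≤ ⊤)) z (hxV z),
    show F.presheaf.map (homOfLE (le_top : V z ≤ ⊤)).op t' = r z from ht' z, hr z z (hxV z)]
  exact (hb z z hz specializes_rfl ⟨z, hz⟩ (hzU ⟨z, hz⟩)).trans (hs ⟨z, hz⟩ z hz (hzU ⟨z, hz⟩))

end Groth.Agent.SpectralSec
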