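import Mathlib.Topology.Sheaves.Functors
import Mathlib.Topology.Sheaves.Stalks
import Mathlib.Topology.Sheaves.Sheafify
import Mathlib.CategoryTheory.Limits.Types.Colimits

/-!
# Stalks of the pullback of a sheaf of sets, through the adjunction unit
-/

open CategoryTheory Limits TopologicalSpace Opposite

universe u

namespace Groth.Agent.SpectralSec

variable {X Y : TopCat.{u}} (f : Y ⟶ X) (F : TopCat.Sheaf (Type u) X)

/-- The unit of `f^* ⊣ f_*` as a map of presheaves. -/
noncomputable def unitHom :
    F.presheaf ⟶ (TopCat.Presheaf.pushforward (Type u) f).obj ((TopCat.Sheaf.pullback (Type u) f).obj F).presheaf :=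
  ((TopCat.Sheaf.pullbackPushforwardAdjunction (Type u) f).unit.app F).hom

/-- The induced map on stalks. -/
noncomputable def stalkUnit (y : Y) :
    F.presheaf.stalk (f y) ⟶ ((TopCat.Sheaf.pullback (Type u) f).obj F).presheaf.stalk y :=
  (TopCat.Presheaf.stalkFunctor (Type u) (f y)).map (unitHom f F) ≫
    TopCat.Presheaf.stalkPushforward (Type u) f _ y

theorem stalkUnit_germ (y : Y) (U : Opens X) (hy : f y ∈ U) (s : F.presheaf.obj (op U)) :
    stalkUnit f F y (F.presheaf.germ U (f y) hy s) =
      ((TopCat.Sheaf.pullback (Type u) f).obj F).presheaf.germ ((Opens.map f).obj U) y hy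
        ((unitHom f F).app (op U) s) := by
  have h : F.presheaf.germ U (f y) hy ≫ stalkUnit f F y = (unitHom f F).app (op U) ≫
      ((TopCat.Sheaf.pullback (Type u) f).obj F).presheaf.germ ((Opens.map f).obj U) y hy := by
    rw [stalkUnit, TopCat.Presheaf.stalkFunctor_map_germ_assoc]
    erw [TopCat.Presheaf.stalkPushforward_germ]
  exact congr($h s)

theorem isIso_stalkUnit (y : Y) : IsIso (stalkUnit f F y) := by
  let G := Opens.map f
  let J := Opens.grothendieckTopology X
  let K := Opens.grothendieckTopology Y
  let adj1 := G.sheafAdjunctionContinuous (Type u) J K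
  let adj2 := Functor.sheafPullbackConstruction.sheafAdjunctionContinuous G (Type u) J K
  let α := ((adj1.leftAdjointUniq adj2).hom.app F).hom
  haveI : IsIso ((adj1.leftAdjointUniq adj2).hom.app F) := inferInstance
  haveI : IsIso α :=
    inferInstanceAs (IsIso ((sheafToPresheaf K (Type u)).map ((adj1.leftAdjointUniq adj2).hom.app F)))
  have h1 : unitHom f F ≫ (TopCat.Presheaf.pushforward (Type u) f).map α = (adj2.unit.app F).hom :=
    congr(($(Adjunction.unit_leftAdjointUniq_hom_app adj1 adj2 F)).hom)
  let adjP := (G.op.lanAdjunction (Type u)).comp (sheafificationAdjunction K (Type u))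
  let c1 : sheafToPresheaf J (Type u) ⋙ (G.op.lan ⋙ presheafToSheaf K (Type u)) ≅
      Functor.sheafPullbackConstruction.sheafPullback G (Type u) J K ⋙ 𝟭 _ := Iso.refl _
  let c2 : 𝟭 (Sheaf K (Type u)) ⋙ (sheafToPresheaf K (Type u) ⋙ (Functor.whiskeringLeft _ _ (Type u)).obj G.op) ≅
      G.sheafPushforwardContinuous (Type u) J K ⋙ sheafToPresheaf J (Type u) := Iso.refl _
  have e := Adjunction.map_restrictFullyFaithful_unit_app adjP
    (fullyFaithfulSheafToPresheaf J (Type u)) (Functor.FullyFaithful.id _) c1 c2 F
  dsimp [adjP, c1, c2] at e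
  have h2 : (adj2.unit.app F).hom =
      (TopCat.Presheaf.pullbackPushforwardAdjunction (Type u) f).unit.app F.presheaf ≫
        (TopCat.Presheaf.pushforward (Type u) f).map (toSheafify K _) := by
    refine e.trans ?_
    rw [Adjunction.comp_unit_app]
    erw [Category.comp_id]
  have key : ∀ {P Q : TopCat.Presheaf (Type u) Y} (β : P ⟶ Q),
      (TopCat.Presheaf.stalkFunctor (Type u) (f y)).map ((TopCat.Presheaf.pushforward (Type u) f).map β) ≫
        TopCat.Presheaf.stalkPushforward (Type u) f Q y =
      TopCat.Presheaf.stalkPushforward (Type u) f P y ≫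
        (TopCat.Presheaf.stalkFunctor (Type u) y).map β := by
    intro P Q β
    refine TopCat.Presheaf.stalk_hom_ext _ fun U hU => ?_
    erw [TopCat.Presheaf.stalkFunctor_map_germ_assoc, TopCat.Presheaf.stalkPushforward_germ,
      TopCat.Presheaf.stalkPushforward_germ_assoc, TopCat.Presheaf.stalkFunctor_map_germ]
    rfl
  have h3 : stalkUnit f F y ≫ (TopCat.Presheaf.stalkFunctor (Type u) y).map α =
      TopCat.Presheaf.stalkPullbackHom (Type u) f F.presheaf y ≫
        (TopCat.Presheaf.stalkFunctor (Type u) y).map (toSheafify K _) := by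
    calc stalkUnit f F y ≫ (TopCat.Presheaf.stalkFunctor (Type u) y).map α
        = (TopCat.Presheaf.stalkFunctor (Type u) (f y)).map
            (unitHom f F ≫ (TopCat.Presheaf.pushforward (Type u) f).map α) ≫
            TopCat.Presheaf.stalkPushforward (Type u) f _ y := by
          rw [stalkUnit, Category.assoc, Functor.map_comp, Category.assoc]
          exact congrArg (_ ≫ ·) (key α).symm
      _ = _ := by
          rw [h1, h2]
          rw [TopCat.Presheaf.stalkPullbackHom]
          erw [Functor.map_comp, Category.assoc, Category.assoc]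
          exact congrArg (_ ≫ ·) (key _)
  haveI : IsIso (TopCat.Presheaf.stalkPullbackHom (Type u) f F.presheaf y) :=
    inferInstanceAs (IsIso (TopCat.Presheaf.stalkPullbackIso (Type u) f F.presheaf y).hom)
  haveI := TopCat.Presheaf.stalkFunctor_map_unit_toSheafify_isIso y (Type u)
    ((TopCat.Presheaf.pullback (Type u) f).obj F.presheaf)
  have hα : IsIso α := ‹IsIso α›
  have hα' : IsIso ((TopCat.Presheaf.stalkFunctor (Type u) y).map α) :=
    @Functor.map_isIso _ _ _ _ _ _ (TopCat.Presheaf.stalkFunctor (Type u) y) α hα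
  haveI : IsIso (stalkUnit f F y ≫ (TopCat.Presheaf.stalkFunctor (Type u) y).map α) := by
    rw [h3]
    exact IsIso.comp_isIso' ‹_› (TopCat.Presheaf.stalkFunctor_map_unit_toSheafify_isIso y (Type u) _)
  exact @IsIso.of_isIso_comp_right _ _ _ _ _ (stalkUnit f F y) ((TopCat.Presheaf.stalkFunctor (Type u) y).map α) hα' ‹_›

theorem stalkUnit_bijective (y : Y) : Function.Bijective (stalkUnit f F y) :=
  (isIso_iff_bijective _).mp (isIso_stalkUnit f F y)

end Groth.Agent.SpectralSec
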